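import Mathlib
import Groth.Agent.CAlgH.NagataIC
import Groth.Agent.S6333
import Groth.Agent.NeronLib.NormalSmooth

/-!
# Normalisation of a normal noetherian scheme of characteristic zero in an etale scheme is finite
-/

set_option autoImplicit false
set_option backward.isDefEq.respectTransparency.types false
set_option linter.style.haveILetI false

universe u

namespace Groth.Agent.NeronEtNorm27

open CategoryTheory CategoryTheory.Limits AlgebraicGeometry TopologicalSpace

/-- Integral closure of a normal noetherian domain in a field, essentially of finite type, in characteristic zero. -/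
theorem finite_ic_field_charZero {A : Type u} [CommRing A] [IsDomain A] [IsIntegrallyClosed A] [IsNoetherianRing A]
    [CharZero A] (L : Type u) [Field L] [Algebra A L] [Algebra.EssFiniteType A L]
    (hinj : Function.Injective (algebraMap A L)) : Module.Finite A (integralClosure A L) := by
  let K := FractionRing A
  let : Algebra K L := (IsFractionRing.lift (K := K) hinj).toAlgebra
  have : IsScalarTower A K L :=
    IsScalarTower.of_algebraMap_eq fun a ↦ (IsFractionRing.lift_algebraMap hinj a).symm
  have : Algebra.EssFiniteType K L := Algebra.EssFiniteType.of_comp A K L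
  haveI : CharZero K := charZero_of_injective_algebraMap (IsFractionRing.injective A K)
  have hfd : FiniteDimensional K (algebraicClosure K L) :=
    Groth.Agent.S6333.result (IntermediateField.fg_top K L)
  haveI := hfd
  have hfin : Module.Finite A (integralClosure A (algebraicClosure K L)) :=
    IsIntegralClosure.finite A K (algebraicClosure K L) (integralClosure A (algebraicClosure K L))
  let j : algebraicClosure K L →ₐ[A] L := (algebraicClosure K L).val.restrictScalars A
  let θ : integralClosure A (algebraicClosure K L) →ₗ[A] integralClosure A L :=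
    { toFun := fun a ↦ ⟨j a.1, (a.2 : _root_.IsIntegral A a.1).map j⟩
      map_add' := fun a b ↦ Subtype.ext (map_add j a.1 b.1)
      map_smul' := fun c a ↦ Subtype.ext (map_smul j c a.1) }
  have hθ : Function.Surjective θ := fun y ↦ by
    have hy : y.1 ∈ algebraicClosure K L :=
      mem_algebraicClosure_iff.mpr (IsIntegral.tower_top (A := K) (y.2 : _root_.IsIntegral A y.1)).isAlgebraic
    refine ⟨⟨⟨y.1, hy⟩, ?_⟩, Subtype.ext rfl⟩
    exact (isIntegral_algHom_iff j Subtype.val_injective).mp y.2
  exact Module.Finite.of_surjective θ hθ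

variable {X S : Scheme.{u}}

theorem finite_ic_sections [IsNoetherian X] [IsReduced X] (f : X ⟶ S) [Flat f] [LocallyOfFiniteType f]
    [QuasiCompact f] (U : S.Opens) (hU : IsAffineOpen U) [IsDomain Γ(S, U)] [IsIntegrallyClosed Γ(S, U)]
    [IsNoetherianRing Γ(S, U)] [CharZero Γ(S, U)] :
    letI := (f.app U).hom.toAlgebra
    Module.Finite Γ(S, U) (integralClosure Γ(S, U) Γ(X, f ⁻¹ᵁ U)) := by
  let := (f.app U).hom.toAlgebra
  let T := {x : X // x ∈ f ⁻¹ᵁ U ∧ closure {x} ∈ irreducibleComponents ↥X}
  have : Finite T := by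
    have hF := NoetherianSpace.finite_irreducibleComponents (α := ↥X)
    have := hF.to_subtype
    refine Finite.of_injective (fun x : T ↦ (⟨closure {x.1}, x.2.2⟩ : irreducibleComponents ↥X))
      fun a b h ↦ Subtype.ext ?_
    have h' : closure ({a.1} : Set X) = closure {b.1} := congrArg Subtype.val h
    exact (show IsGenericPoint a.1 (closure {b.1}) from h').eq rfl
  let ψ (x : T) : Γ(X, f ⁻¹ᵁ U) →+* X.residueField x.1 := (X.evaluation (f ⁻¹ᵁ U) x.1 x.2.1).hom
  let (x : T) : Algebra Γ(S, U) (X.residueField x.1) := ((ψ x).comp (f.app U).hom).toAlgebra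
  have (x : T) : Algebra.EssFiniteType Γ(S, U) (X.residueField x.1) := by
    have hx : f x.1 ∈ U := x.2.1
    let := (S.presheaf.germ U (f x.1) hx).hom.toAlgebra
    have := hU.isLocalization_stalk ⟨f x.1, hx⟩
    have h1 : Algebra.EssFiniteType Γ(S, U) (S.presheaf.stalk (f x.1)) :=
      .of_isLocalization _ (hU.primeIdealOf ⟨f x.1, hx⟩).asIdeal.primeCompl
    have h1' : (S.presheaf.germ U (f x.1) hx).hom.EssFiniteType := RingHom.essFiniteType_algebraMap.mpr h1
    have h3 : (f.residueFieldMap x.1).hom.EssFiniteType := by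
      have hs : (f.stalkMap x.1).hom.EssFiniteType := LocallyOfFiniteType.stalkMap _ _
      have h4 : ((f.residueFieldMap x.1).hom.comp (S.residue (f x.1)).hom).EssFiniteType := by
        rw [← CommRingCat.hom_comp, Scheme.residue_residueFieldMap, CommRingCat.hom_comp]
        exact hs.comp (RingHom.FiniteType.of_surjective _ (X.residue_surjective x.1)).essFiniteType
      exact RingHom.EssFiniteType.of_comp (S.residue (f x.1)).hom h4
    have h2 := (h1'.comp
      (RingHom.FiniteType.of_surjective _ (S.residue_surjective (f x.1))).essFiniteType).comp h3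
    refine RingHom.essFiniteType_algebraMap.mp ?_
    convert h2 using 1
    refine RingHom.ext fun a ↦ ?_
    exact (Scheme.evaluation_naturality_apply f x.1 hx a).symm
  have (x : T) : Module.Finite Γ(S, U) (integralClosure Γ(S, U) (X.residueField x.1)) := by
    refine finite_ic_field_charZero _ ((injective_iff_map_eq_zero _).2 fun a ha => ?_)
    by_contra hne
    have hx : f x.1 ∈ U := x.2.1
    let p := hU.primeIdealOf ⟨f x.1, hx⟩
    let η : PrimeSpectrum Γ(S, U) := ⟨⊥, Ideal.bot_prime⟩
    have hsp : hU.fromSpec η ⤳ f x.1 := by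
      have h := ((PrimeSpectrum.le_iff_specializes η p).1 bot_le).map hU.fromSpec.continuous
      exact (congrArg (fun y => hU.fromSpec η ⤳ y) (hU.fromSpec_primeIdealOf ⟨f x.1, hx⟩)).mp h
    obtain ⟨x', hx'x, hfx'⟩ := Flat.generalizingMap (f := f) hsp
    have hxx : x' = x.1 := by
      have h2 : closure ({x.1} : Set X) ⊆ closure {x'} :=
        closure_minimal (Set.singleton_subset_iff.2 hx'x.mem_closure) isClosed_closure
      have h3 : closure ({x'} : Set X) ⊆ closure {x.1} :=
        x.2.2.le_of_ge isIrreducible_singleton.closure h2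
      exact (((specializes_iff_closure_subset).2 h3).antisymm hx'x).eq.symm
    subst hxx
    have hmem : f x.1 ∈ S.basicOpen a := by
      rw [hfx']
      have : η ∈ PrimeSpectrum.basicOpen a := fun h => hne ((Ideal.mem_bot).1 h)
      rwa [← hU.fromSpec_preimage_basicOpen a] at this
    have : x.1 ∈ X.basicOpen (f.app U a) := by
      rw [← Scheme.preimage_basicOpen]; exact hmem
    exact (Scheme.evaluation_ne_zero_iff_mem_basicOpen X x.1 x.2.1 (f.app U a)).mpr this ha
  let r (x : T) : Γ(X, f ⁻¹ᵁ U) →ₐ[Γ(S, U)] X.residueField x.1 := { ψ x with commutes' := fun a ↦ rfl }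
  let π : integralClosure Γ(S, U) Γ(X, f ⁻¹ᵁ U) →ₗ[Γ(S, U)]
      ((x : T) → integralClosure Γ(S, U) (X.residueField x.1)) :=
    LinearMap.pi fun x ↦
      { toFun := fun a ↦ ⟨r x a.1, (a.2 : _root_.IsIntegral Γ(S, U) a.1).map (r x)⟩
        map_add' := fun a b ↦ Subtype.ext (map_add (r x) a.1 b.1)
        map_smul' := fun c a ↦ Subtype.ext (map_smul (r x) c a.1) }
  refine Module.Finite.of_injective π fun a b hab ↦ Subtype.ext ?_
  rw [← sub_eq_zero]
  refine (AlgebraicGeometry.basicOpen_eq_bot_iff (X := X) (a.1 - b.1)).mp (eq_bot_iff.mpr fun z hz ↦ ?_)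
  have hi := isIrreducible_irreducibleComponent (x := z)
  obtain ⟨ζ, hζ⟩ := QuasiSober.sober hi isClosed_irreducibleComponent
  have hmem : ζ ∈ X.basicOpen (a.1 - b.1) :=
    (hζ.specializes mem_irreducibleComponent).mem_open (X.basicOpen (a.1 - b.1)).isOpen hz
  have hζY : ζ ∈ f ⁻¹ᵁ U := X.basicOpen_le _ hmem
  have hζc : closure {ζ} ∈ irreducibleComponents ↥X := by
    rw [hζ.def]; exact irreducibleComponent_mem_irreducibleComponents z
  refine absurd ?_ ((Scheme.evaluation_ne_zero_iff_mem_basicOpen X ζ hζY (a.1 - b.1)).mpr hmem)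
  show ψ ⟨ζ, hζY, hζc⟩ (a.1 - b.1) = 0
  rw [map_sub, sub_eq_zero]
  exact congrArg Subtype.val (congrFun hab ⟨ζ, hζY, hζc⟩)

theorem finite_map_eqToHom (Y : Scheme.{u}) {V W : Y.Opens} (h : V = W) :
    (Y.presheaf.map (eqToHom h).op).hom.Finite := by
  subst h
  rw [eqToHom_refl, op_id, CategoryTheory.Functor.map_id]
  exact RingHom.Finite.id _

theorem isFinite_fromNormalization {k : Type u} [Field k] [CharZero k] (σ : S ⟶ Spec (CommRingCat.of k))
    [IsLocallyNoetherian S] (hS : Pi1.IsNormalScheme S) [IsNoetherian X] [IsReduced X] (f : X ⟶ S) [Flat f]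
    [LocallyOfFiniteType f] [QuasiCompact f] [QuasiSeparated f] : IsFinite f.fromNormalization := by
  have key : ∀ s : S, ∃ U : S.affineOpens, s ∈ (U : S.Opens) ∧ IsDomain Γ(S, U) := fun s => by
    obtain ⟨W, hsW, hW⟩ := NeronLib.exists_isIntegral_nhd hS s
    obtain ⟨U, hU, hsU, hUW⟩ := exists_isAffineOpen_mem_and_subset (x := s) (U := W) hsW
    haveI : Nonempty ↥(W.ι ⁻¹ᵁ U) := ⟨⟨⟨s, hsW⟩, hsU⟩⟩
    have h : IsDomain Γ(W.toScheme, W.ι ⁻¹ᵁ U) := @IsIntegral.component_integral _ hW (W.ι ⁻¹ᵁ U) ⟨⟨⟨s, hsW⟩, hsU⟩⟩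
    have hle : U ≤ W.ι.opensRange := by simpa using hUW
    haveI : IsIso (W.ι.app U) := W.ι.isIso_app U hle
    exact ⟨⟨U, hU⟩, hsU, (asIso (W.ι.app U)).commRingCatIsoToRingEquiv.injective.isDomain _⟩
  choose U hsU hdom using key
  refine (HasAffineProperty.iff_of_iSup_eq_top (P := @IsFinite) U
    (eq_top_iff.2 fun s _ => Opens.mem_iSup.2 ⟨s, hsU s⟩)).2 fun s => ⟨(U s).2.preimage _, ?_⟩
  haveI := hdom s
  haveI : IsNoetherianRing Γ(S, U s) := IsLocallyNoetherian.component_noetherian (U s)
  haveI : CharZero Γ(S, U s) := charZero_of_injective_ringHom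
    ((σ.appLE ⊤ (U s) le_top).hom.comp (Scheme.ΓSpecIso (CommRingCat.of k)).inv.hom).injective
  haveI : IsIntegrallyClosed Γ(S, U s) :=
    IsIntegrallyClosed.of_localization_maximal fun p hp hm => ((NeronLib.isNormalRing_sections hS (U s).2) p).2
  have key : ∀ V : S.Opens, V = U s → (f.fromNormalization.app V).hom.Finite := by
    rintro V rfl
    let := (f.app (U s)).hom.toAlgebra
    have h := finite_ic_sections f (U s) (U s).2
    rw [f.fromNormalization_app (U s).2, CommRingCat.hom_comp]
    exact (RingHom.Finite.of_surjective _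
      (ConcreteCategory.bijective_of_isIso (f.normalizationObjIso (U s).2).inv).2).comp (RingHom.finite_algebraMap.mpr h)
  show (f.fromNormalization ∣_ (U s : S.Opens)).appTop.hom.Finite
  rw [morphismRestrict_appTop]
  exact (finite_map_eqToHom _ _).comp (key _ (by simp))

end Groth.Agent.NeronEtNorm27
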