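import Mathlib
import Groth.Prelude.Def_CInt
import Groth.Agent.NeronEtNorm27.Finite
import Groth.Agent.NeronEtale27.Main
import Groth.Agent.NeronLib.NormalSmooth
import Groth.Agent.CAlgSmall.NormalNormalization
import Groth.Agent.S13421
import Groth.Agent.FlatMorWeight.Comp

/-!
# Néron models of etale separated quasi-compact schemes over a normal noetherian base

The model is the largest open of the normalisation which is etale over the base and whose part over the open
is the given scheme.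
-/

set_option autoImplicit false
set_option backward.isDefEq.respectTransparency.types false
set_option linter.style.haveILetI false
set_option maxHeartbeats 1000000

universe u

namespace Groth.Agent.NeronEtNorm27

open CategoryTheory CategoryTheory.Limits AlgebraicGeometry TopologicalSpace

theorem dense_of_isSchematicallyDense {X : Scheme.{u}} {U : X.Opens} [IsReduced X]
    (h : CInt.IsSchematicallyDense U) : Dense (U : Set X) := by
  refine dense_iff_inter_open.2 fun V hV hne => ?_
  by_contra hem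
  rw [Set.not_nonempty_iff_eq_empty] at hem
  let V' : X.Opens := ⟨V, hV⟩
  have hbot : V' ⊓ U = ⊥ := Opens.ext hem
  haveI : Subsingleton Γ(X, V' ⊓ U) := by
    rw [hbot]; exact CommRingCat.subsingleton_of_isTerminal X.sheaf.isTerminalOfEmpty
  have h1 : (1 : Γ(X, V')) = 0 := h V' (Subsingleton.elim _ _)
  obtain ⟨x, hx⟩ := hne
  exact one_ne_zero ((map_one (X.presheaf.germ V' x hx).hom).symm.trans
    ((congrArg (X.presheaf.germ V' x hx).hom h1).trans (map_zero _)))

theorem exists_neron {k : Type u} [Field k] [CharZero k] {S : Scheme.{u}} (σ : S ⟶ Spec (CommRingCat.of k))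
    [IsNoetherian S] (hS : Pi1.IsNormalScheme S) (S₀ : S.Opens) (hS₀ : CInt.IsSchematicallyDense S₀)
    (N₀ : Over (S₀ : Scheme.{u})) [Etale N₀.hom] [IsSeparated N₀.hom] [QuasiCompact N₀.hom] :
    ∃ (N : Over S) (e : (Over.pullback S₀.ι).obj N ≅ N₀), Etale N.hom ∧ IsSeparated N.hom ∧ QuasiCompact N.hom ∧
      ∀ Z : Over S, Smooth Z.hom → Function.Bijective (fun g : Z ⟶ N => (Over.pullback S₀.ι).map g) := by
  haveI := NeronLib.isReduced_of_normal hS
  have hd : Dense (S₀ : Set S) := dense_of_isSchematicallyDense hS₀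
  let f : N₀.left ⟶ S := N₀.hom ≫ S₀.ι
  haveI : Etale f := inferInstanceAs (Etale (N₀.hom ≫ S₀.ι))
  haveI : IsLocallyNoetherian N₀.left := LocallyOfFiniteType.isLocallyNoetherian f
  haveI : QuasiCompact S₀.ι := inferInstance
  haveI : QuasiCompact f := inferInstanceAs (QuasiCompact (N₀.hom ≫ S₀.ι))
  haveI : IsSeparated f := inferInstanceAs (IsSeparated (N₀.hom ≫ S₀.ι))
  haveI : CompactSpace N₀.left := QuasiCompact.compactSpace_of_compactSpace f
  haveI : IsNoetherian N₀.left := {}
  have hN₀ : Pi1.IsNormalScheme N₀.left := NeronLib.isNormalScheme_of_smooth f hS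
  haveI := NeronLib.isReduced_of_normal hN₀
  let π := f.fromNormalization
  let t : N₀.left ⟶ f.normalization := f.toNormalization
  haveI : LocallyQuasiFinite f := FlatMorWeight.locallyQuasiFinite_of_etale f
  haveI : IsOpenImmersion t := inferInstanceAs (IsOpenImmersion f.toNormalization)
  have ht : t ≫ π = f := f.toNormalization_fromNormalization
  haveI : IsFinite π := isFinite_fromNormalization σ hS f
  haveI : LocallyOfFinitePresentation π := inferInstance
  haveI : IsLocallyNoetherian f.normalization := LocallyOfFiniteType.isLocallyNoetherian π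
  haveI : CompactSpace f.normalization := QuasiCompact.compactSpace_of_compactSpace π
  haveI : IsNoetherian f.normalization := {}
  haveI : Finite ↑(irreducibleComponents ↥N₀.left) := NoetherianSpace.finite_irreducibleComponents.to_subtype
  have hT : Pi1.IsNormalScheme f.normalization := (CAlgSmall.NormalNormalization.main f hN₀
    (locallyFinite_of_finite _)).1
  let 𝒱 : Set f.normalization.Opens := {V | Etale (V.ι ≫ π) ∧ V ⊓ π ⁻¹ᵁ S₀ ≤ t.opensRange}
  let W : f.normalization.Opens := sSup 𝒱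
  have hW0 : W ⊓ π ⁻¹ᵁ S₀ ≤ t.opensRange := by
    rintro y ⟨hy, hy0⟩
    obtain ⟨V, hV, hyV⟩ := Opens.mem_sSup.1 hy
    exact hV.2 ⟨hyV, hy0⟩
  have htW : t.opensRange ≤ W := le_sSup ⟨by
    let e := (IsOpenImmersion.isoOfRangeEq t t.opensRange.ι (by simp))
    have h1 : t.opensRange.ι ≫ π = e.inv ≫ f := by
      rw [← IsOpenImmersion.isoOfRangeEq_inv_fac t t.opensRange.ι (by simp), Category.assoc]
      exact congrArg (e.inv ≫ ·) ht
    rw [h1]; infer_instance, inf_le_left⟩
  haveI hWet : Etale (W.ι ≫ π) := by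
    refine IsZariskiLocalAtSource.of_iSup_eq_top (P := @Etale) (fun V : 𝒱 => W.ι ⁻¹ᵁ V.1)
      (eq_top_iff.2 fun y _ => ?_) fun V => ?_
    · obtain ⟨V, hV, hyV⟩ := Opens.mem_sSup.1 y.2
      exact Opens.mem_iSup.2 ⟨⟨V, hV⟩, hyV⟩
    · have hle : V.1 ≤ W := le_sSup V.2
      haveI := V.2.1
      let e := IsOpenImmersion.isoOfRangeEq ((W.ι ⁻¹ᵁ V.1).ι ≫ W.ι) V.1.ι (by
        rw [Scheme.Hom.comp_base, TopCat.coe_comp, Set.range_comp, Scheme.Opens.range_ι, Scheme.Opens.range_ι,
          Scheme.Hom.coe_preimage, Set.image_preimage_eq_inter_range, Scheme.Opens.range_ι]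
        exact Set.inter_eq_left.2 hle)
      have h1 : (W.ι ⁻¹ᵁ V.1).ι ≫ W.ι ≫ π = e.hom ≫ V.1.ι ≫ π := by
        rw [← Category.assoc, ← IsOpenImmersion.isoOfRangeEq_hom_fac ((W.ι ⁻¹ᵁ V.1).ι ≫ W.ι) V.1.ι, Category.assoc]
      rw [h1]; infer_instance
  let N : Over S := Over.mk (W.ι ≫ π)
  let a : N₀.left ⟶ W.toScheme := IsOpenImmersion.lift W.ι t (by
    rw [Scheme.Opens.range_ι]; exact htW)
  have ha : a ≫ W.ι = t := IsOpenImmersion.lift_fac _ _ _
  haveI : IsOpenImmersion a := IsOpenImmersion.of_comp a W.ι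
  have hN0S : π ⁻¹ᵁ S₀ ⊓ W = t.opensRange := by
    refine le_antisymm (inf_comm (π ⁻¹ᵁ S₀) W ▸ hW0) (le_inf ?_ htW)
    rintro _ ⟨y, rfl⟩
    show π (t y) ∈ S₀
    have h1 : π (t y) = (N₀.hom ≫ S₀.ι) y := congr($ht y)
    rw [h1]
    exact (N₀.hom y).2
  have hpb : IsPullback a N₀.hom (W.ι ≫ π) S₀.ι := by
    refine (IsOpenImmersion.isPullback N₀.hom a S₀.ι (W.ι ≫ π) ?_ ?_).flip
    · rw [← Category.assoc, ha, ht]
    · refine W.ι.image_injective ?_
      show W.ι ''ᵁ ((W.ι ≫ π) ⁻¹ᵁ S₀.ι.opensRange) = W.ι ''ᵁ a.opensRange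
      have h5 : (a ≫ W.ι).opensRange = t.opensRange := by simp only [ha]
      rw [← Scheme.Hom.opensRange_comp, h5, Scheme.Opens.opensRange_ι, Scheme.Hom.comp_preimage,
        Scheme.Hom.image_preimage_eq_opensRange_inf, Scheme.Opens.opensRange_ι, ← hN0S, inf_comm]
  let e : (Over.pullback S₀.ι).obj N ≅ N₀ := (Over.isoMk hpb.isoPullback hpb.isoPullback_hom_snd).symm
  refine ⟨N, e, hWet, ?_, ?_, fun Z hZ => ⟨?_, ?_⟩⟩
  · show IsSeparated (W.ι ≫ π); infer_instance
  · show QuasiCompact (W.ι ≫ π); infer_instance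
  · intro g₁ g₂ hg
    haveI := hZ
    haveI : IsReduced Z.left := NeronLib.isReduced_of_normal (NeronLib.isNormalScheme_of_smooth Z.hom hS)
    haveI : IsSeparated N.hom := inferInstanceAs (IsSeparated (W.ι ≫ π))
    haveI : IsDominant (pullback.fst Z.hom S₀.ι) := ⟨by
      rw [DenseRange, Scheme.Pullback.range_fst, Scheme.Opens.range_ι]
      exact hd.preimage Z.hom.isOpenMap⟩
    refine Over.OverMorphism.ext (ext_of_isDominant_of_isSeparated N.hom
      ((Over.w g₁).trans (Over.w g₂).symm) (pullback.fst Z.hom S₀.ι) ?_)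
    have h := congrArg (fun q => CommaMorphism.left q ≫ pullback.fst N.hom S₀.ι) hg
    exact ((pullback.lift_fst _ _ _).symm.trans h).trans (pullback.lift_fst _ _ _)
  · intro q
    haveI := hZ
    haveI : IsLocallyNoetherian Z.left := LocallyOfFiniteType.isLocallyNoetherian Z.hom
    have hZn := NeronLib.isNormalScheme_of_smooth Z.hom hS
    haveI := NeronLib.isReduced_of_normal hZn
    let U : Z.left.Opens := Z.hom ⁻¹ᵁ S₀
    have hU : Dense (U : Set Z.left) := hd.preimage Z.hom.isOpenMap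
    let b := (isPullback_morphismRestrict Z.hom S₀).flip.isoPullback
    have hb : b.hom ≫ pullback.fst Z.hom S₀.ι = U.ι :=
      (isPullback_morphismRestrict Z.hom S₀).flip.isoPullback_hom_fst
    let h : U.toScheme ⟶ f.normalization := b.hom ≫ q.left ≫ pullback.fst N.hom S₀.ι ≫ W.ι
    have hh : h ≫ π = U.ι ≫ Z.hom := by
      have h2 : pullback.fst N.hom S₀.ι ≫ W.ι ≫ π = pullback.snd N.hom S₀.ι ≫ S₀.ι := pullback.condition
      have h3 : q.left ≫ pullback.snd N.hom S₀.ι = pullback.snd Z.hom S₀.ι := Over.w q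
      rw [← hb]
      simp only [h, Category.assoc]
      rw [h2, reassoc_of% h3, pullback.condition]
    obtain ⟨G, hG, hGU⟩ := NeronLib.exists_extension_to_integral hZn Z.hom π U hU h hh
    have hloc := NeronLib.range_subset_smoothLocus hS Z.hom π hT G hG
    let E : f.normalization.Opens := π.smoothLocus
    haveI : Smooth (E.ι ≫ π) := by
      rw [← Scheme.Hom.smoothLocus_eq_top_iff, ← Scheme.Hom.preimage_smoothLocus_eq, Scheme.Opens.ι_preimage_self]
    haveI : Etale (E.ι ≫ π) := NeronEtale27.etale_of_smooth_lqf _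
    let G₁ : Z.left ⟶ E.toScheme := IsOpenImmersion.lift E.ι G (by
      rw [Scheme.Opens.range_ι]; exact Set.range_subset_iff.2 hloc)
    have hG₁ : G₁ ≫ E.ι = G := IsOpenImmersion.lift_fac _ _ _
    haveI : Smooth G₁ := S13421.smooth_of_comp_etale G₁ (E.ι ≫ π) Z.hom (by rw [← Category.assoc, hG₁, hG])
    let V : f.normalization.Opens := ⟨Set.range G, by
      rw [← hG₁, Scheme.Hom.comp_base, TopCat.coe_comp, Set.range_comp]
      exact E.ι.isOpenEmbedding.isOpenMap _ G₁.isOpenMap.isOpen_range⟩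
    have hVE : V ≤ E := by rintro _ ⟨z, rfl⟩; exact hloc z
    have hVW : V ≤ W := by
      refine le_sSup ⟨?_, ?_⟩
      · rw [← f.normalization.homOfLE_ι hVE, Category.assoc]; infer_instance
      · rintro _ ⟨⟨z, rfl⟩, hz⟩
        have hzU : z ∈ U := by
          show Z.hom z ∈ S₀
          rw [← hG]; exact hz
        have hGz : G z = h ⟨z, hzU⟩ := congr($hGU ⟨z, hzU⟩)
        refine hW0 ⟨?_, hz⟩
        rw [hGz]
        exact ((b.hom ≫ q.left ≫ pullback.fst N.hom S₀.ι) ⟨z, hzU⟩).2
    let G₂ : Z.left ⟶ W.toScheme := IsOpenImmersion.lift W.ι G (by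
      rw [Scheme.Opens.range_ι]; exact hVW)
    have hG₂ : G₂ ≫ W.ι = G := IsOpenImmersion.lift_fac _ _ _
    refine ⟨Over.homMk G₂ (by show G₂ ≫ W.ι ≫ π = Z.hom; rw [← Category.assoc, hG₂, hG]),
      Over.OverMorphism.ext (pullback.hom_ext ?_ ?_)⟩
    · refine (pullback.lift_fst _ _ _).trans ?_
      show pullback.fst Z.hom S₀.ι ≫ G₂ = q.left ≫ pullback.fst N.hom S₀.ι
      rw [← cancel_mono W.ι, ← cancel_epi b.hom, Category.assoc, hG₂, ← Category.assoc, hb, hGU]
      simp [h]
    · exact (Over.w _).trans (Over.w q).symm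

end Groth.Agent.NeronEtNorm27
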